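import Groth.Agent.Lib.FanoGen.Incidence
import Groth.Agent.Lib.FanoSmooth.Generic
import Groth.Agent.Lib.FanoLine.Independent
import Groth.Agent.Lib.OrdQuad12.Quad
import Groth.Agent.Lib.LCI6.Field

/-!
# The discriminant of forms
-/

set_option autoImplicit false
set_option linter.all false
set_option maxHeartbeats 1000000

open MvPolynomial GrothLib.FanoGen GrothLib.FanoSmooth

universe u

noncomputable section

namespace GrothLib.Discr12

variable {k : Type u} [Field k] {n d : ℕ}

/-- All first partials and the value vanish. -/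
def SingAt (p : MvPolynomial (Fin (n + 1)) k) (v : Fin (n + 1) → k) : Prop :=
  eval v p = 0 ∧ ∀ i, eval v (pderiv i p) = 0

theorem eval_smul_of_homog {e : ℕ} {p : MvPolynomial (Fin (n + 1)) k} (hp : p.IsHomogeneous e)
    {v : Fin (n + 1) → k} (h : eval v p = 0) (t : k) : eval (t • v) p = 0 := by
  rw [eval_smul_point hp, h, mul_zero]

theorem SingAt.smul {p : MvPolynomial (Fin (n + 1)) k} (hp : p.IsHomogeneous d) {v : Fin (n + 1) → k}
    (h : SingAt p v) (t : k) : SingAt p (t • v) :=
  ⟨eval_smul_of_homog hp h.1 t, fun i => eval_smul_of_homog hp.pderiv (h.2 i) t⟩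

/-- Substitution preserves singular points. -/
theorem SingAt.comp {p : MvPolynomial (Fin (n + 1)) k} (φ : Fin (n + 1) → MvPolynomial (Fin (n + 1)) k)
    (u v : Fin (n + 1) → k) (huv : ∀ i, eval u (φ i) = v i) (h : SingAt p v) : SingAt (aeval φ p) u := by
  have he : ∀ q, eval u (aeval φ q) = eval v q := fun q => by
    induction q using MvPolynomial.induction_on with
    | C a => simp
    | add a b ha hb => simp only [map_add, ha, hb]
    | mul_X a i ha => simp only [map_mul, aeval_X, ha, eval_X, huv]
  refine ⟨(he p).trans h.1, fun i => ?_⟩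
  rw [GrothLib.FanoLine.pderiv_aeval, map_sum]
  exact Finset.sum_eq_zero fun c _ => by rw [map_mul, he, h.2 c, zero_mul]

theorem aeval_homogeneous {p : MvPolynomial (Fin (n + 1)) k} (hp : p.IsHomogeneous d)
    (φ : Fin (n + 1) → MvPolynomial (Fin (n + 1)) k) (hφ : ∀ i, (φ i).IsHomogeneous 1) :
    (aeval φ p).IsHomogeneous d := by
  simpa using hp.aeval φ hφ

theorem move_homogeneous (j : Fin (n + 1)) (v : Fin (n + 1) → k) (i : Fin (n + 1)) :
    (move j v i).IsHomogeneous 1 := by
  rw [move]
  split
  · exact isHomogeneous_X k j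
  · exact (isHomogeneous_X k i).add (isHomogeneous_C_mul_X (v i) j)

/-- Moving the vertex to a point. -/
theorem eval_move (v u : Fin (n + 1) → k) (i : Fin (n + 1)) :
    eval u (move 0 v i) = if i = 0 then u 0 else u i + v i * u 0 := by
  rw [move]
  split <;> simp

/-- The first point. -/
abbrev e0 : Fin (n + 1) → k := Pi.single 0 1

/-- Exponents of forms singular at the first point. -/
abbrev Jex (n d : ℕ) : Type := {e : Expo n d // e.1 0 + 2 ≤ d}

theorem expo_compl {m : Fin (n + 1) →₀ ℕ} (hm : m.degree = d) (h : ¬ m 0 + 2 ≤ d) (hd : 1 ≤ d) :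
    ∃ a, m = Finsupp.single 0 (d - 1) + Finsupp.single a 1 := by
  classical
  rw [Finsupp.degree_eq_sum, Fin.sum_univ_succ] at hm
  by_cases h0 : ∀ a : Fin n, m a.succ = 0
  · refine ⟨0, ?_⟩
    rw [← Finsupp.single_add, Nat.sub_add_cancel hd]
    ext i
    refine Fin.cases ?_ (fun a => ?_) i
    · rw [Finset.sum_eq_zero fun a _ => h0 a] at hm
      simpa using hm
    · simp [Finsupp.single_apply, h0, (Fin.succ_ne_zero a).symm]
  · push Not at h0
    obtain ⟨a, ha⟩ := h0
    refine ⟨a.succ, ?_⟩
    rw [← Finset.add_sum_erase _ _ (Finset.mem_univ a)] at hm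
    ext i
    refine Fin.cases ?_ (fun b => ?_) i
    · simp [Finsupp.single_apply]
      omega
    · by_cases hb : b = a
      · subst hb
        simp [Finsupp.single_apply, (Fin.succ_ne_zero b).symm]
        omega
      · have : m b.succ ≤ ∑ x ∈ Finset.univ.erase a, m x.succ :=
          Finset.single_le_sum (f := fun x => m x.succ) (fun _ _ => Nat.zero_le _)
            (Finset.mem_erase.mpr ⟨hb, Finset.mem_univ b⟩)
        simp [Finsupp.single_apply, (Fin.succ_ne_zero b).symm, Fin.succ_inj, Ne.symm hb]
        omega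

theorem eval_pderiv_e0 {p : MvPolynomial (Fin (n + 1)) k} (hp : p.IsHomogeneous d) (a : Fin (n + 1)) :
    eval e0 (pderiv a p) = coeff (Finsupp.single 0 (d - 1) + Finsupp.single a 1) p *
      (((Finsupp.single 0 (d - 1) : Fin (n + 1) →₀ ℕ) a : k) + 1) := by
  rw [eval_single_one hp.pderiv, coeff_pderiv]

theorem singAt_e0_iff {p : MvPolynomial (Fin (n + 1)) k} (hp : p.IsHomogeneous d) (hd : 2 ≤ d) :
    SingAt p e0 ↔ ∀ m : Fin (n + 1) →₀ ℕ, ¬ m 0 + 2 ≤ d → coeff m p = 0 := by
  constructor
  · intro h m hm
    by_contra hne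
    obtain ⟨a, rfl⟩ := expo_compl (by by_contra hh; exact hne (hp.coeff_eq_zero hh)) hm (by omega)
    by_cases ha : a = 0
    · subst ha
      have := h.1
      rw [eval_single_one hp] at this
      rw [← Finsupp.single_add, Nat.sub_add_cancel (by omega : 1 ≤ d)] at hne
      exact hne this
    · have := h.2 a
      rw [eval_pderiv_e0 hp] at this
      simp [Finsupp.single_apply, Ne.symm ha, -Finsupp.single_tsub] at this
      exact hne this
  · intro h
    refine ⟨?_, fun a => ?_⟩
    · rw [eval_single_one hp]
      exact h _ (by simp)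
    · rw [eval_pderiv_e0 hp, h _ (by
        by_cases ha : a = 0
        · subst ha; simp; omega
        · simp [Finsupp.single_apply, ha]; omega), zero_mul]

/-- A form singular at the first point, from its coefficients. -/
def sform (s : Jex n d → k) : MvPolynomial (Fin (n + 1)) k := ∑ e : Jex n d, monomial e.1.1 (s e)

theorem sform_homogeneous (s : Jex n d → k) : (sform s).IsHomogeneous d :=
  IsHomogeneous.sum _ _ _ fun e _ => isHomogeneous_monomial _ (mem_expo.1 e.1.2)

theorem coeff_sform (s : Jex n d → k) (e : Jex n d) : coeff e.1.1 (sform s) = s e := by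
  classical
  rw [sform, coeff_sum, Finset.sum_eq_single e]
  · simp
  · intro b _ hb
    rw [coeff_monomial, if_neg fun h => hb (Subtype.ext (Subtype.ext h))]
  · simp

theorem coeff_sform_zero (s : Jex n d → k) (m : Fin (n + 1) →₀ ℕ) (hm : ¬ m 0 + 2 ≤ d) : coeff m (sform s) = 0 := by
  classical
  rw [sform, coeff_sum]
  refine Finset.sum_eq_zero fun e _ => ?_
  rw [coeff_monomial, if_neg]
  rintro rfl
  exact hm e.2

theorem eq_sform {p : MvPolynomial (Fin (n + 1)) k} (hp : p.IsHomogeneous d) (hd : 2 ≤ d) (h : SingAt p e0) :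
    p = sform fun e : Jex n d => coeff e.1.1 p := by
  ext m
  by_cases hm : m 0 + 2 ≤ d
  · by_cases hdeg : m.degree = d
    · exact (coeff_sform (fun e : Jex n d => coeff e.1.1 p) ⟨⟨m, mem_expo.2 hdeg⟩, hm⟩).symm
    · rw [hp.coeff_eq_zero hdeg, (sform_homogeneous _).coeff_eq_zero hdeg]
  · rw [(singAt_e0_iff hp hd).1 h m hm, coeff_sform_zero _ m hm]

/-- Parameters: a point of the chart and a form singular at the first point. -/
abbrev Prm (n d : ℕ) : Type := Fin n ⊕ Jex n d

/-- The point of a parameter. -/
def pt (p : Prm n d → k) : Fin (n + 1) → k := Fin.cons 1 fun a => p (Sum.inl a)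

/-- The translation of a parameter. -/
def shiftv {R : Type u} [CommRing R] (p : Prm n d → R) : Fin (n + 1) → R := Fin.cons 0 fun a => p (Sum.inl a)

theorem eval_move_pt (p : Prm n d → k) (i : Fin (n + 1)) : eval (pt p) (move 0 (-shiftv p) i) = e0 i := by
  rw [eval_move]
  refine Fin.cases ?_ (fun a => ?_) i
  · simp [pt]
  · simp [pt, shiftv, Fin.succ_ne_zero, e0, Pi.single_apply]

theorem eval_move_e0 (p : Prm n d → k) (i : Fin (n + 1)) : eval e0 (move 0 (shiftv p) i) = pt p i := by
  rw [eval_move]
  refine Fin.cases ?_ (fun a => ?_) i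
  · simp [pt]
  · simp [pt, shiftv, Fin.succ_ne_zero, e0, Pi.single_apply]

/-- The singular form of a parameter. -/
def gform (p : Prm n d → k) : MvPolynomial (Fin (n + 1)) k :=
  aeval (move 0 (-shiftv p)) (sform fun e => p (Sum.inr e))

theorem gform_homogeneous (p : Prm n d → k) : (gform p).IsHomogeneous d :=
  aeval_homogeneous (sform_homogeneous _) _ (move_homogeneous 0 _)

theorem singAt_gform (hd : 2 ≤ d) (p : Prm n d → k) : SingAt (gform p) (pt p) :=
  SingAt.comp _ _ e0 (eval_move_pt p)
    ((singAt_e0_iff (sform_homogeneous _) hd).2 fun m hm => coeff_sform_zero _ m hm)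

/-- The parametrisation. -/
def phi (e : Expo n d) : MvPolynomial (Prm n d) k :=
  coeff e.1 (aeval (move 0 (-shiftv fun q : Prm n d => (X q : MvPolynomial (Prm n d) k)))
    (∑ f : Jex n d, monomial f.1.1 (X (Sum.inr f) : MvPolynomial (Prm n d) k)))

theorem map_aeval' {R S : Type u} [CommRing R] [CommRing S] (f : R →+* S)
    (φ : Fin (n + 1) → MvPolynomial (Fin (n + 1)) R) (q : MvPolynomial (Fin (n + 1)) R) :
    map f (aeval φ q) = aeval (fun i => map f (φ i)) (map f q) := by
  induction q using MvPolynomial.induction_on with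
  | C a => simp
  | add a b ha hb => simp only [map_add, ha, hb]
  | mul_X a i ha => simp only [map_mul, aeval_X, ha, map_X]

theorem eval_phi (p : Prm n d → k) (e : Expo n d) : eval p (phi e) = coeff e.1 (gform p) := by
  have h1 : (fun i => map (eval p) (move 0 (-shiftv fun q : Prm n d => (X q : MvPolynomial (Prm n d) k)) i)) =
      move 0 (-shiftv p) := by
    funext i
    by_cases hi : i = 0
    · simp [move, hi]
    · obtain ⟨a, rfl⟩ := Fin.exists_succ_eq.mpr hi
      simp [move, shiftv, Fin.succ_ne_zero]
  have h2 : map (eval p) (∑ f : Jex n d, monomial f.1.1 (X (Sum.inr f) : MvPolynomial (Prm n d) k)) =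
      sform fun f => p (Sum.inr f) := by
    simp only [sform, map_sum, map_monomial, eval_X]
  rw [phi, ← coeff_map, map_aeval', h1, h2, gform]

/-- The coefficient vector of a polynomial. -/
def cv (n d : ℕ) (q : MvPolynomial (Fin (n + 1)) k) : Expo n d → k := fun e => coeff e.1 q

/-- The ideal of singular forms. -/
def discI (k : Type u) [Field k] (n d : ℕ) : Ideal (MvPolynomial (Expo n d) k) :=
  RingHom.ker (aeval (phi (k := k) (n := n) (d := d))).toRingHom

instance : (discI k n d).IsPrime := RingHom.ker_isPrime _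

theorem eval_comp_phi (p : Prm n d → k) (P : MvPolynomial (Expo n d) k) :
    eval p (aeval phi P) = eval (cv n d (gform p)) P := by
  induction P using MvPolynomial.induction_on with
  | C a => simp
  | add a b ha hb => simp only [map_add, ha, hb]
  | mul_X a i ha => simp only [map_mul, aeval_X, ha, eval_X, eval_phi, cv]

theorem mem_discI_iff [Infinite k] (P : MvPolynomial (Expo n d) k) :
    P ∈ discI k n d ↔ ∀ p : Prm n d → k, eval (cv n d (gform p)) P = 0 := by
  refine ⟨fun h p => ?_, fun h => MvPolynomial.funext fun p => ?_⟩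
  · rw [← eval_comp_phi, show aeval phi P = 0 from h, map_zero]
  · rw [map_zero]
    exact (eval_comp_phi p P).trans (h p)

/-- Every singular form is in the zero set of the ideal. -/
theorem eval_eq_zero_of_singAt [Infinite k] (hd : 2 ≤ d) {P : MvPolynomial (Expo n d) k} (hP : P ∈ discI k n d)
    {q : MvPolynomial (Fin (n + 1)) k} (hq : q.IsHomogeneous d) {v : Fin (n + 1) → k} (hv : v ≠ 0)
    (h : SingAt q v) : eval (cv n d q) P = 0 := by
  classical
  have hchart : ∀ (q : MvPolynomial (Fin (n + 1)) k), q.IsHomogeneous d → ∀ v : Fin (n + 1) → k, v 0 ≠ 0 →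
      SingAt q v → eval (cv n d q) P = 0 := by
    intro q hq v hv h
    have h1 : SingAt q ((v 0)⁻¹ • v) := h.smul hq _
    let y : Fin n → k := fun a => ((v 0)⁻¹ • v) a.succ
    let p₀ : Prm n d → k := Sum.elim y 0
    have hpt : pt p₀ = (v 0)⁻¹ • v := by
      funext i
      refine Fin.cases ?_ (fun a => ?_) i
      · simp [pt, hv]
      · simp [pt, p₀, y]
    let S := aeval (move 0 (shiftv p₀)) q
    have hS : S.IsHomogeneous d := aeval_homogeneous hq _ (move_homogeneous 0 _)
    have hSs : SingAt S e0 := SingAt.comp _ _ (pt p₀) (eval_move_e0 p₀) (hpt ▸ h1)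
    let p : Prm n d → k := Sum.elim y fun e => coeff e.1.1 S
    have hg : gform p = q := by
      rw [gform, show shiftv p = shiftv p₀ from rfl,
        show (fun e : Jex n d => p (Sum.inr e)) = fun e => coeff e.1.1 S from rfl, ← eq_sform hS hd hSs]
      exact move_comp 0 _ q
    rw [← hg]
    exact (mem_discI_iff P).1 hP p
  by_cases hv0 : v 0 = 0
  swap
  · exact hchart q hq v hv0 h
  obtain ⟨l, hl⟩ := Function.ne_iff.mp hv
  have hl0 : l ≠ 0 := fun e => hl (by rw [e, hv0]; rfl)
  let tr : k → Fin (n + 1) → MvPolynomial (Fin (n + 1)) k := fun t i =>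
    if i = 0 then X 0 + C t * X l else X i
  let trp : Fin (n + 1) → MvPolynomial (Fin (n + 1)) (Polynomial k) := fun i =>
    if i = 0 then X 0 + C Polynomial.X * X l else X i
  let Q : Polynomial k := eval₂ Polynomial.C (fun e => coeff e.1 (aeval trp (map Polynomial.C q))) P
  have hQ : ∀ t, Q.eval t = eval (cv n d (aeval (tr t) q)) P := by
    intro t
    show Polynomial.evalRingHom t (eval₂ _ _ P) = _
    rw [eval₂_comp_left (Polynomial.evalRingHom t)]
    show eval₂ _ _ P = eval₂ (RingHom.id k) _ P
    congr 1
    · ext a; simp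
    · funext e
      show Polynomial.evalRingHom t (coeff e.1 (aeval trp (map Polynomial.C q))) = coeff e.1 (aeval (tr t) q)
      have h1 : (fun i => map (Polynomial.evalRingHom t) (trp i)) = tr t := by
        funext i
        simp only [trp, tr]
        split <;> simp
      rw [← coeff_map, map_aeval', h1, map_map,
        show (Polynomial.evalRingHom t).comp Polynomial.C = RingHom.id k from RingHom.ext fun a => by simp, map_id]
  have hQ0 : Q = 0 := by
    refine Polynomial.eq_zero_of_infinite_isRoot Q ((Set.finite_singleton (0 : k)).infinite_compl.mono fun t ht => ?_)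
    show Q.eval t = 0
    rw [hQ]
    have hu : SingAt (aeval (tr t) q) (Function.update v 0 (-(t * v l))) := by
      refine SingAt.comp _ _ v (fun i => ?_) h
      simp only [tr]
      by_cases hi : i = 0
      · subst hi
        simp [Function.update_of_ne hl0, hv0]
      · simp [hi, Function.update_of_ne hi]
    refine hchart _ (aeval_homogeneous hq _ fun i => ?_) _ ?_ hu
    · simp only [tr]
      split
      · exact (isHomogeneous_X k 0).add (isHomogeneous_C_mul_X t l)
      · exact isHomogeneous_X k i
    · simp only [Function.update_self, ne_eq, neg_eq_zero, mul_eq_zero, not_or]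
      exact ⟨ht, hl⟩
  have h0 := hQ 0
  have e : aeval (tr 0) q = q := by
    rw [show tr 0 = X from funext fun i => by simp [tr]; intro e; rw [e], aeval_X_left, AlgHom.id_apply]
  rwa [hQ0, Polynomial.eval_zero, e, eq_comm] at h0

/-- Nonsingular forms are separated from singular ones by a polynomial. -/
theorem exists_elim [IsAlgClosed k] (q : LefPen.Form n k d) (hq : ∀ v, v ≠ 0 → ¬ SingAt q.1 v) :
    ∃ P : MvPolynomial (Expo n d) k, eval (cv n d q.1) P ≠ 0 ∧
      ∀ (H : LefPen.Form n k d) (v : Fin (n + 1) → k), v ≠ 0 → SingAt H.1 v → eval (cv n d H.1) P = 0 := by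
  classical
  let F : Option (Fin (n + 1)) → LefPen.Form n k d →ₗ[k] MvPolynomial (Fin (n + 1)) k := fun o =>
    o.elim (CohB1.polyGrading n k d).subtype
      fun a => (pderiv a).toLinearMap.comp (CohB1.polyGrading n k d).subtype
  let deg : Option (Fin (n + 1)) → ℕ := fun o => o.elim d fun _ => d - 1
  have hFhom : ∀ o (H : LefPen.Form n k d), (F o H).IsHomogeneous (deg o) := by
    rintro (_ | a) H
    · exact H.2
    · exact (show IsHomogeneous H.1 d from H.2).pderiv
  let 𝔞 : Ideal (MvPolynomial (Fin (n + 1)) k) := Ideal.span (Set.range fun o => F o q)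
  have hrad : Ideal.span (Set.range (X : Fin (n + 1) → MvPolynomial (Fin (n + 1)) k)) ≤ 𝔞.radical := by
    rw [Ideal.span_le]
    rintro _ ⟨i, rfl⟩
    rw [SetLike.mem_coe, ← vanishingIdeal_zeroLocus_eq_radical (K := k)]
    intro x hx
    by_cases hx0 : x = 0
    · simp [hx0]
    · refine absurd ⟨?_, fun a => ?_⟩ (hq x hx0)
      · have := hx _ (Ideal.subset_span ⟨none, rfl⟩)
        rwa [aeval_eq_eval] at this
      · have := hx _ (Ideal.subset_span ⟨some a, rfl⟩)
        rwa [aeval_eq_eval] at this
  obtain ⟨E, hE⟩ := Ideal.exists_pow_le_of_le_radical_of_fg hrad (Submodule.fg_span (Set.finite_range _))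
  have hmon : ∀ m : Expo n E, (monomial m.1 (1 : k)) ∈ 𝔞 := fun m => hE (by
    have : monomial m.1 (1 : k) = ∏ i, (X i : MvPolynomial (Fin (n + 1)) k) ^ m.1 i := by
      rw [← aeval_X_left_apply (monomial m.1 (1 : k)), aeval_monomial, map_one, one_mul,
        Finsupp.prod_fintype _ _ fun i => pow_zero _]
    rw [this]
    have h1 : (∏ i, (X i : MvPolynomial (Fin (n + 1)) k) ^ m.1 i) ∈
        Ideal.span (Set.range (X : Fin (n + 1) → MvPolynomial (Fin (n + 1)) k)) ^ (∑ i, m.1 i) := by
      rw [← Finset.prod_pow_eq_pow_sum]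
      exact Ideal.prod_mem_prod fun i _ => Ideal.pow_mem_pow (Ideal.subset_span (Set.mem_range_self i)) _
    rwa [← Finsupp.degree_eq_sum, mem_expo.1 m.2] at h1)
  choose A hA using fun m => Ideal.mem_span_range_iff_exists_fun.mp (hmon m)
  let L : Expo n E → LefPen.Form n k d →ₗ[k] MvPolynomial (Fin (n + 1)) k := fun m =>
    ∑ o, (LinearMap.mulLeft k (A m o)).comp (F o)
  have hLq : ∀ m, L m q = monomial m.1 1 := fun m => by
    rw [← hA m]
    simp [L]
  let b : Expo n d → LefPen.Form n k d := fun e => (GrothLib.FanoGen.coeffs (k := k)).symm (Pi.single e 1)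
  let Ψ : LefPen.Form n k d → Matrix (Expo n E) (Expo n E) k := fun H => Matrix.of fun m m' => coeff m'.1 (L m H)
  let M : Matrix (Expo n E) (Expo n E) (MvPolynomial (Expo n d) k) := Matrix.of fun m m' =>
    ∑ e, C (coeff m'.1 (L m (b e))) * X e
  have hM : ∀ H : LefPen.Form n k d, eval (cv n d H.1) M.det = (Ψ H).det := by
    intro H
    rw [RingHom.map_det]
    congr 1
    ext m m'
    simp only [RingHom.mapMatrix_apply, Matrix.map_apply, M, Ψ, Matrix.of_apply, map_sum, map_mul, eval_C, eval_X]
    have hH : H = ∑ e, cv n d H.1 e • b e := by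
      apply (GrothLib.FanoGen.coeffs (k := k)).injective
      funext e
      simp [b, map_sum, map_smul, Finset.sum_apply, Pi.single_apply]
      rfl
    conv_rhs => rw [hH, map_sum, coeff_sum]
    exact Finset.sum_congr rfl fun e _ => by rw [map_smul, coeff_smul, smul_eq_mul, mul_comm]
  refine ⟨M.det, ?_, fun H v hv h => ?_⟩
  · rw [hM, show Ψ q = 1 from ?_, Matrix.det_one]
    · exact one_ne_zero
    · ext m m'
      simp only [Ψ, Matrix.of_apply, hLq, coeff_monomial, Matrix.one_apply, Subtype.ext_iff]
  rw [hM, ← Matrix.exists_mulVec_eq_zero_iff]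
  refine ⟨fun m => eval v (monomial m.1 1), fun e => ?_, ?_⟩
  · obtain ⟨j, hj⟩ := Function.ne_iff.mp hv
    have := congrFun e ⟨Finsupp.single j E, mem_expo.2 (by simp)⟩
    simp only [Pi.zero_apply, eval_monomial, one_mul, Finsupp.prod_single_index, pow_zero] at this
    exact hj (eq_zero_of_pow_eq_zero this)
  · funext m
    have hline : ∀ t : k, eval (t • v) (L m H) = 0 := fun t => by
      simp only [L, LinearMap.sum_apply, LinearMap.comp_apply, LinearMap.mulLeft_apply, map_sum, map_mul]
      refine Finset.sum_eq_zero fun o _ => mul_eq_zero_of_right _ (eval_smul_of_homog (hFhom o H) ?_ t)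
      rcases o with _ | a
      · exact h.1
      · exact h.2 a
    set Q := L m H
    have hcomp : eval v (homogeneousComponent E Q) = 0 := by
      let R : Polynomial k := ∑ i ∈ Finset.range (Q.totalDegree + 1 + E + 1),
        Polynomial.monomial i (eval v (homogeneousComponent i Q))
      have hR : R = 0 := Polynomial.eq_zero_of_infinite_isRoot R (Set.infinite_univ.mono fun t _ => by
        show R.eval t = 0
        rw [← hline t]
        conv_rhs => rw [← sum_homogeneousComponent (φ := Q), map_sum]
        rw [Finset.sum_subset (Finset.range_subset_range.mpr (show Q.totalDegree + 1 ≤ Q.totalDegree + 1 + E + 1 by omega))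
          (fun i _ hi => by rw [homogeneousComponent_eq_zero i Q (by simp at hi; omega), map_zero])]
        simp only [R, Polynomial.eval_finsetSum, Polynomial.eval_monomial]
        exact Finset.sum_congr rfl fun i _ => by
          rw [eval_smul_point (homogeneousComponent_isHomogeneous i Q), mul_comm])
      have := congrArg (fun p => Polynomial.coeff p E) hR
      simpa [R, Polynomial.finsetSum_coeff, Polynomial.coeff_monomial] using this
    have hexp : homogeneousComponent E Q = ∑ m' : Expo n E, monomial m'.1 (coeff m'.1 Q) := by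
      ext e
      rw [coeff_homogeneousComponent, coeff_sum]
      by_cases he : e.degree = E
      · rw [if_pos he, Finset.sum_eq_single (⟨e, mem_expo.2 he⟩ : Expo n E)]
        · simp
        · intro c _ hc
          rw [coeff_monomial, if_neg fun h => hc (Subtype.ext h)]
        · simp
      · rw [if_neg he]
        refine (Finset.sum_eq_zero fun c _ => ?_).symm
        rw [coeff_monomial, if_neg]
        rintro rfl
        exact he (mem_expo.1 c.2)
    rw [hexp, map_sum] at hcomp
    show ∑ m', _ = 0
    rw [← hcomp]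
    exact Finset.sum_congr rfl fun m' _ => by simp [Ψ, eval_monomial, Q]

end GrothLib.Discr12
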