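import Groth.Agent.Lib.Discr12.Basic
import Groth.Agent.Lib.DualVar12.Alg

/-!
# The discriminant is an irreducible hypersurface
-/

set_option autoImplicit false
set_option linter.all false
set_option maxHeartbeats 1000000

open MvPolynomial GrothLib.FanoGen GrothLib.FanoSmooth

universe u

noncomputable section

namespace GrothLib.Discr12

variable {k : Type u} [Field k] {n d : ℕ}

theorem card_expo_le (hd : 2 ≤ d) : Fintype.card (Expo n d) ≤ Fintype.card (Prm n d) + 1 := by
  classical
  let c : Fin (n + 1) → Expo n d := fun a =>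
    ⟨Finsupp.single 0 (d - 1) + Finsupp.single a 1, mem_expo.2 (by simp [Finsupp.degree_eq_sum, Finset.sum_add_distrib, -Finsupp.single_tsub]; omega)⟩
  have hsurj : Function.Surjective (Sum.elim c (fun e : Jex n d => e.1)) := fun e => by
    by_cases he : e.1 0 + 2 ≤ d
    · exact ⟨Sum.inr ⟨e, he⟩, rfl⟩
    · obtain ⟨a, ha⟩ := expo_compl (mem_expo.1 e.2) he (by omega)
      exact ⟨Sum.inl a, Subtype.ext ha.symm⟩
  have := Fintype.card_le_of_surjective _ hsurj
  simp only [Fintype.card_sum, Fintype.card_fin] at this ⊢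
  omega

theorem card_prm_lt (hd : 2 ≤ d) : Fintype.card (Prm n d) < Fintype.card (Expo n d) := by
  classical
  let c : Fin (n + 1) → Expo n d := fun a =>
    ⟨Finsupp.single 0 (d - 1) + Finsupp.single a 1, mem_expo.2 (by simp [Finsupp.degree_eq_sum, Finset.sum_add_distrib, -Finsupp.single_tsub]; omega)⟩
  have hinj : Function.Injective (Sum.elim c (fun e : Jex n d => e.1)) := by
    rintro (a | e) (a' | e') h
    · have h1 : Finsupp.single a 1 = Finsupp.single a' 1 := add_left_cancel (congrArg Subtype.val h)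
      rw [(Finsupp.single_left_inj one_ne_zero).1 h1]
    · exfalso
      have h1 := congrArg (fun x : Expo n d => x.1 0) h
      simp [c, Finsupp.single_apply, -Finsupp.single_tsub] at h1
      have := e'.2
      split at h1 <;> omega
    · exfalso
      have h1 := congrArg (fun x : Expo n d => x.1 0) h
      simp [c, Finsupp.single_apply, -Finsupp.single_tsub] at h1
      have := e.2
      split at h1 <;> omega
    · exact congrArg Sum.inr (Subtype.ext h)
  have := Fintype.card_le_of_injective _ hinj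
  simp only [Fintype.card_sum, Fintype.card_fin] at this ⊢
  omega

theorem discI_ne_bot [Infinite k] (hd : 2 ≤ d) : discI k n d ≠ ⊥ := by
  intro e
  obtain ⟨P, hP0, hP⟩ := exists_missed (card_prm_lt (n := n) hd) (phi (k := k) (n := n) (d := d))
  refine hP0 ?_
  have : P ∈ discI k n d := (mem_discI_iff P).2 fun p => by
    by_contra h
    exact hP _ h p fun e => eval_phi p e
  rwa [e, Ideal.mem_bot] at this

theorem cv_eq (H : LefPen.Form n k d) : cv n d H.1 = GrothLib.FanoGen.coeffs H := rfl

/-- The zero set of the ideal is the set of singular forms. -/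
theorem zero_discI_iff [IsAlgClosed k] (hd : 2 ≤ d) (H : LefPen.Form n k d) :
    (∃ v, v ≠ 0 ∧ SingAt H.1 v) ↔ ∀ P ∈ discI k n d, eval (cv n d H.1) P = 0 := by
  haveI : Infinite k := IsAlgClosed.instInfinite
  refine ⟨fun ⟨v, hv, h⟩ P hP => eval_eq_zero_of_singAt hd hP H.2 hv h, fun h => ?_⟩
  by_contra hne
  push Not at hne
  obtain ⟨P, hP0, hP⟩ := exists_elim H fun v hv => hne v hv
  refine hP0 (h P ((mem_discI_iff P).2 fun p => ?_))
  exact hP ⟨gform p, gform_homogeneous p⟩ (pt p)
    (fun e => by simpa [pt] using congrFun e 0) (singAt_gform hd p)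

/-- A form whose only singular point in the chart is the first point. -/
theorem exists_unique_param [IsAlgClosed k] (hd : 2 ≤ d) :
    ∃ p₀ : Prm n d → k, ∀ p, cv n d (gform p) = cv n d (gform p₀) → p = p₀ := by
  classical
  obtain ⟨c, hc⟩ := GrothLib.OrdQuad12.exists_not_degQ (k := k) n
  let q : MvPolynomial (Fin (n + 1)) k :=
    ∑ a : Fin n, ∑ b : Fin n, C (c a b) * (X 0 ^ (d - 2) * (X a.succ * X b.succ))
  have hq : q.IsHomogeneous d := IsHomogeneous.sum _ _ _ fun a _ => IsHomogeneous.sum _ _ _ fun b _ => by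
    have h := ((isHomogeneous_X k (0 : Fin (n + 1))).pow (d - 2)).mul
      ((isHomogeneous_X k a.succ).mul (isHomogeneous_X k b.succ))
    rw [one_mul, show d - 2 + (1 + 1) = d by omega] at h
    exact h.C_mul _
  have heval : ∀ v : Fin (n + 1) → k, eval v q =
      ∑ a : Fin n, ∑ b : Fin n, c a b * (v 0 ^ (d - 2) * (v a.succ * v b.succ)) := fun v => by
    simp only [q, map_sum, map_mul, map_pow, eval_C, eval_X]
  have hder : ∀ (v : Fin (n + 1) → k) (i : Fin n), eval v (pderiv i.succ q) =
      v 0 ^ (d - 2) * GrothLib.OrdQuad12.dq c i (fun a => v a.succ) := fun v i => by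
    simp only [q, map_sum, pderiv_C_mul, pderiv_C, pderiv_mul, pderiv_pow, pderiv_X, Pi.single_apply, Fin.succ_inj,
      (Fin.succ_ne_zero i).symm, if_false, map_mul, map_add, eval_C, apply_ite (eval v), map_one, map_zero, eval_X,
      map_pow, mul_ite, ite_mul, mul_one, mul_zero, zero_mul, one_mul, zero_add, mul_add, Finset.sum_add_distrib]
    rw [GrothLib.OrdQuad12.dq, Finset.mul_sum]
    simp only [add_mul, mul_add, Finset.sum_add_distrib, Finset.sum_ite_eq', Finset.mem_univ, if_true]
    rw [Finset.sum_comm]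
    simp only [Finset.sum_ite_eq', Finset.mem_univ, if_true]
    congr 1 <;> exact Finset.sum_congr rfl fun a _ => by ring
  have hqs : SingAt q e0 := ⟨by rw [heval]; simp [e0, Pi.single_apply, Fin.succ_ne_zero], fun i => by
    refine Fin.cases ?_ (fun a => ?_) i
    · simp only [q, map_sum, pderiv_C_mul, pderiv_C, pderiv_mul, map_zero, map_mul, map_add, eval_X, e0, Pi.single_apply,
        Fin.succ_ne_zero, if_false, mul_zero, zero_mul, add_zero, Finset.sum_const_zero]
    · rw [hder]; simp [GrothLib.OrdQuad12.dq, e0, Pi.single_apply, Fin.succ_ne_zero]⟩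
  let p₀ : Prm n d → k := Sum.elim 0 fun e => coeff e.1.1 q
  have hmove0 : ∀ p : Prm n d → k, (∀ a, p (Sum.inl a) = 0) → move (R := k) 0 (-shiftv p) = X := fun p hp => by
    funext i
    refine Fin.cases ?_ (fun a => ?_) i <;> simp [move, shiftv, hp, Fin.succ_ne_zero]
  have hg₀ : gform p₀ = q := by
    rw [gform, hmove0 p₀ fun a => rfl, aeval_X_left, AlgHom.id_apply]
    exact (eq_sform hq hd hqs).symm
  refine ⟨p₀, fun p hp => ?_⟩
  rw [hg₀] at hp
  have he : gform p = q := by
    ext m
    by_cases hm : m.degree = d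
    · exact congrFun hp ⟨m, mem_expo.2 hm⟩
    · rw [(gform_homogeneous p).coeff_eq_zero hm, hq.coeff_eq_zero hm]
  have hs : SingAt q (pt p) := he ▸ singAt_gform hd p
  have hy : (fun a => p (Sum.inl a)) = 0 := by
    by_contra hne
    refine hc ⟨_, hne, ?_, fun i => ?_⟩
    · have := hs.1
      rw [heval] at this
      simp [pt, mul_assoc] at this
      simpa [GrothLib.OrdQuad12.qf, mul_assoc] using this
    · have := hs.2 i.succ
      rw [hder] at this
      simpa [pt] using this
  have hy' : ∀ a, p (Sum.inl a) = 0 := congrFun hy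
  rw [gform, hmove0 p hy', aeval_X_left, AlgHom.id_apply] at he
  funext x
  rcases x with a | e
  · exact hy' a
  · show p (Sum.inr e) = coeff e.1.1 q
    rw [← he, coeff_sform]

/-- The ideal of singular forms is principal. -/
theorem exists_generator [IsAlgClosed k] (hd : 2 ≤ d) :
    ∃ f : MvPolynomial (Expo n d) k, Irreducible f ∧ discI k n d = Ideal.span {f} := by
  classical
  haveI : Infinite k := IsAlgClosed.instInfinite
  obtain ⟨f, hfI, hf⟩ := Ideal.IsPrime.exists_mem_prime_of_ne_bot (inferInstance : (discI k n d).IsPrime)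
    (discI_ne_bot (k := k) (n := n) hd)
  refine ⟨f, hf.irreducible, le_antisymm (fun g hg => ?_) ((Ideal.span_singleton_le_iff_mem _).2 hfI)⟩
  by_contra hgf
  let A := MvPolynomial (Expo n d) k
  let I := discI k n d
  haveI : (Ideal.span {f}).IsPrime := (Ideal.span_singleton_prime hf.ne_zero).2 hf
  let A₁ := A ⧸ Ideal.span {f}
  let g₁ : A₁ := Ideal.Quotient.mk _ g
  have hg₁ : g₁ ∈ nonZeroDivisors A₁ := mem_nonZeroDivisors_of_ne_zero fun e =>
    hgf (Ideal.Quotient.eq_zero_iff_mem.1 e)
  have hA : ringKrullDim (A ⧸ I) + 1 + 1 ≤ (Fintype.card (Expo n d) : WithBot ℕ∞) := by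
    have h1 := ringKrullDim_quotient_succ_le_of_nonZeroDivisor (mem_nonZeroDivisors_of_ne_zero hf.ne_zero)
    have h2 := ringKrullDim_quotient_succ_le_of_nonZeroDivisor hg₁
    let π₁ : A₁ →+* A ⧸ I := Ideal.Quotient.factor ((Ideal.span_singleton_le_iff_mem _).2 hfI)
    let π₂ : A₁ ⧸ Ideal.span {g₁} →+* A ⧸ I := Ideal.Quotient.lift _ π₁ fun x hx => by
      obtain ⟨y, rfl⟩ := Ideal.mem_span_singleton'.1 hx
      rw [map_mul, show π₁ g₁ = 0 from Ideal.Quotient.eq_zero_iff_mem.2 hg, mul_zero]
    have hπ₂ : Function.Surjective π₂ :=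
      Ideal.Quotient.lift_surjective_of_surjective _ _ (Ideal.Quotient.factor_surjective _)
    calc ringKrullDim (A ⧸ I) + 1 + 1 ≤ ringKrullDim (A₁ ⧸ Ideal.span {g₁}) + 1 + 1 :=
          add_le_add_left (add_le_add_left (ringKrullDim_le_of_surjective π₂ hπ₂) 1) 1
      _ ≤ ringKrullDim A₁ + 1 := add_le_add_left h2 1
      _ ≤ ringKrullDim A := h1
      _ = (Fintype.card (Expo n d) : WithBot ℕ∞) := by
        rw [MvPolynomial.ringKrullDim_of_isNoetherianRing, ringKrullDim_eq_zero_of_field, zero_add,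
          Nat.card_eq_fintype_card]
  obtain ⟨p₀, hp₀⟩ := exists_unique_param (k := k) (n := n) hd
  let σ := Fintype.equivFin (Prm n d)
  let C' := MvPolynomial (Fin (Fintype.card (Prm n d))) k
  let Φ : A →ₐ[k] C' := (rename σ).comp (aeval phi)
  let Φ' : A ⧸ I →ₐ[k] C' := Ideal.Quotient.liftₐ I Φ fun a ha => by
    show rename σ (aeval phi a) = 0
    rw [show aeval phi a = 0 from ha, map_zero]
  let Qp : C' →ₐ[k] k := aeval fun i => p₀ (σ.symm i)
  let Q : Ideal C' := RingHom.ker Qp.toRingHom
  haveI : Q.IsMaximal := RingHom.ker_isMaximal_of_surjective Qp.toRingHom fun x => ⟨algebraMap k C' x, Qp.commutes x⟩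
  haveI : Q.IsPrime := Ideal.IsMaximal.isPrime inferInstance
  letI : Algebra (A ⧸ I) C' := Φ'.toRingHom.toAlgebra
  let P : Ideal (A ⧸ I) := Q.comap (algebraMap (A ⧸ I) C')
  haveI : P.IsPrime := Ideal.comap_isPrime _ _
  haveI : Q.LiesOver P := ⟨rfl⟩
  have hmax : ∀ Mx : Ideal C', Mx.IsMaximal → P.map (algebraMap (A ⧸ I) C') ≤ Mx → Mx = Q := by
    intro Mx hMx hle
    obtain ⟨ψ, hψ⟩ := GrothLib.Jets.exists_point (k := k) Mx
    have hval : ∀ e, ψ (Φ (X e)) = Qp (Φ (X e)) := by
      intro e
      have hm : Ideal.Quotient.mk I (X e - C (Qp (Φ (X e)))) ∈ P := by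
        show Qp (Φ (X e - C (Qp (Φ (X e))))) = 0
        rw [map_sub, map_sub, ← MvPolynomial.algebraMap_eq, AlgHom.commutes, AlgHom.commutes,
          Algebra.algebraMap_self, RingHom.id_apply, sub_self]
      have h0 : ψ (Φ (X e - C (Qp (Φ (X e))))) = 0 := hψ.ge (hle (Ideal.mem_map_of_mem _ hm))
      rw [map_sub, map_sub, ← MvPolynomial.algebraMap_eq, AlgHom.commutes, AlgHom.commutes,
        Algebra.algebraMap_self, RingHom.id_apply, sub_eq_zero] at h0
      exact h0
    have hphi : ∀ (θ : C' →ₐ[k] k) e, θ (Φ (X e)) = cv n d (gform fun q => θ (X (σ q))) e := by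
      intro θ e
      show θ (rename σ (aeval phi (X e))) = coeff e.1 _
      rw [aeval_X, ← eval_phi, ← aeval_eq_eval]
      refine congrArg (fun F : MvPolynomial (Prm n d) k →ₐ[k] k => F (phi e))
        (show θ.comp (rename σ) = aeval fun q => θ (X (σ q)) from MvPolynomial.algHom_ext fun q => ?_)
      rw [AlgHom.comp_apply, aeval_X]
      erw [rename_X]
    have hQp : (fun q => Qp (X (σ q))) = p₀ := by funext q; simp only [Qp]; erw [aeval_X]; rw [σ.symm_apply_apply]
    have := hp₀ (fun q => ψ (X (σ q))) (funext fun e => by rw [← hphi, hval e, hphi, hQp])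
    have hψQ : ψ = Qp := MvPolynomial.algHom_ext fun i => by
      have := congrFun this (σ.symm i)
      simpa [Qp] using this
    rw [← hψ, hψQ]
  have hht : (Q.map (Ideal.Quotient.mk (P.map (algebraMap (A ⧸ I) C')))).height = 0 := by
    have hle : P.map (algebraMap (A ⧸ I) C') ≤ Q := Ideal.map_le_iff_le_comap.2 le_rfl
    haveI : (Q.map (Ideal.Quotient.mk (P.map (algebraMap (A ⧸ I) C')))).IsPrime :=
      Ideal.map_isPrime_of_surjective Ideal.Quotient.mk_surjective (by rwa [Ideal.mk_ker])
    rw [Ideal.height_eq_zero_iff]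
    refine ⟨⟨inferInstance, bot_le⟩, fun q hq hqQ => ?_⟩
    haveI := hq.1
    haveI : IsJacobsonRing C' := isJacobsonRing_of_finiteType (A := k) (B := C')
    let q' := q.comap (Ideal.Quotient.mk (P.map (algebraMap (A ⧸ I) C')))
    haveI : q'.IsPrime := Ideal.comap_isPrime _ _
    have hPq : P.map (algebraMap (A ⧸ I) C') ≤ q' := fun x hx => by
      show Ideal.Quotient.mk _ x ∈ q
      rw [Ideal.Quotient.eq_zero_iff_mem.2 hx]
      exact zero_mem q
    have hQq : Q ≤ q' := by
      rw [← (inferInstance : q'.IsPrime).isRadical.radical, Ideal.radical_eq_jacobson]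
      exact le_sInf fun Mx hMx => (hmax Mx hMx.2 (hPq.trans hMx.1)).ge
    exact Ideal.map_le_iff_le_comap.2 hQq
  have h1 := Ideal.height_le_height_add_of_liesOver P Q
  rw [hht, add_zero, GrothLib.LCI6.height_eq_of_isMaximal Q] at h1
  have h2 : ((Fintype.card (Prm n d) : ℕ∞) : WithBot ℕ∞) ≤ ringKrullDim (A ⧸ I) :=
    (WithBot.coe_le_coe.2 h1).trans Ideal.height_le_ringKrullDim_of_isPrime
  have h3 := (add_le_add_left (add_le_add_left h2 1) 1).trans hA
  have h4 := card_expo_le (n := n) hd
  have h5 : Fintype.card (Prm n d) + 1 + 1 ≤ Fintype.card (Expo n d) := by exact_mod_cast h3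
  omega

end GrothLib.Discr12
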